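import Cfsg.Agent.Lib.H6.U43M.Pres
import Cfsg.Agent.Lib.H17.M22M.AbsTools
import Cfsg.Agent.Lib.H28.StemTools

set_option autoImplicit false
set_option maxRecDepth 100000

/-!
# The core counting argument for central extensions of `U4(3)` (helper6)

Two stages: `⟨a, b⟩` has at most `6048` elements (stage 1 certificate, over `⟨a⟩`), and it has at most
`540 * |⟨X, W⟩|` cosets (stage 2 certificate).  The lower bound `6048 ≤ |⟨σ a, σ b⟩|` comes from the stage 2
certificate applied to the quotient itself (helper12's trick), so nothing about `U3(3)` is needed.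
-/

namespace Cfsg.Agent.Lib.H6.U43M

open Subgroup
open scoped commutatorElement

section stage1

variable {K : Type*} [Group K]

theorem card_le_of_setting {ga gb : K} {A : Subgroup K} (S : U33M.Setting ga gb A) :
    Finite K ∧ Nat.card K ≤ 6048 := by
  obtain ⟨hfinQ, hq⟩ := U33M.mono_main S
  have h7 : ga ^ 7 = 1 := by
    have := S.exact (List.replicate 7 0) (by decide)
    rwa [wv2_replicate0] at this
  have hfinH : Finite (closure ({ga} : Set K)) := by
    rw [← zpowers_eq_closure]
    exact Nat.finite_of_card_ne_zero (by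
      rw [Nat.card_zpowers]
      exact (orderOf_pos_iff.2 (isOfFinOrder_iff_pow_eq_one.2 ⟨7, by norm_num, h7⟩)).ne')
  have hH : Nat.card (closure ({ga} : Set K)) ≤ 7 := by
    rw [← zpowers_eq_closure, Nat.card_zpowers]
    exact Nat.le_of_dvd (by norm_num) (orderOf_dvd_of_pow_eq_one h7)
  have hfin : Finite K :=
    Finite.of_equiv _ (Subgroup.groupEquivQuotientProdSubgroup (s := closure ({ga} : Set K))).symm
  refine ⟨hfin, ?_⟩
  calc Nat.card K = Nat.card (K ⧸ closure ({ga} : Set K)) * Nat.card (closure ({ga} : Set K)) :=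
        Subgroup.card_eq_card_quotient_mul_card_subgroup _
    _ ≤ 864 * 7 := Nat.mul_le_mul hq hH
    _ = 6048 := by norm_num

variable {E : Type*} [Group E]

/-- stage 1 for the subgroup generated by two elements of a group -/
theorem card_closure_le (a b : E) (Z : Subgroup E) (hZ : Z ≤ center E)
    (hdisj : ∀ x ∈ closure ({a} : Set E), x ∈ Z → x = 1)
    (hex : ∀ w ∈ U33M.Cert.exactL, U33M.wv a b w = 1)
    (hrel : ∀ w ∈ U33M.Cert.symL ++ U33M.Cert.cenL, U33M.wv a b w ∈ Z) :
    Finite (closure ({a, b} : Set E)) ∧ Nat.card (closure ({a, b} : Set E)) ≤ 6048 := by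
  set K0 : Subgroup E := closure {a, b} with hK0
  have haK : a ∈ K0 := subset_closure (by simp)
  have hbK : b ∈ K0 := subset_closure (by simp)
  let ga1 : ↥K0 := ⟨a, haK⟩
  let gb1 : ↥K0 := ⟨b, hbK⟩
  have hval : ∀ w, ((U33M.wv ga1 gb1 w : ↥K0) : E) = U33M.wv a b w := by
    intro w
    have := map_wv2 K0.subtype ga1 gb1 w
    exact this
  have S : U33M.Setting ga1 gb1 (Z.subgroupOf K0) :=
    { central := by
        intro x hx
        rw [mem_center_iff]
        intro y
        apply Subtype.ext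
        exact mem_center_iff.mp (hZ (mem_subgroupOf.1 hx)) y
      disj := by
        intro x hx hxA
        apply Subtype.ext
        apply hdisj _ _ (mem_subgroupOf.1 hxA)
        have h1 : (x : E) ∈ (closure ({ga1} : Set ↥K0)).map K0.subtype := mem_map_of_mem _ hx
        rw [MonoidHom.map_closure, Set.image_singleton] at h1
        exact h1
      exact := by
        intro w hw
        apply Subtype.ext
        rw [hval]
        exact hex w hw
      rel := by
        intro w hw
        rw [mem_subgroupOf, hval]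
        exact hrel w hw
      gen := by
        have h := Subgroup.closure_closure_coe_preimage (k := ({a, b} : Set E))
        convert h using 2
        ext x
        simp only [Set.mem_insert_iff, Set.mem_singleton_iff, Set.mem_preimage]
        constructor
        · rintro (rfl | rfl)
          · left; rfl
          · right; rfl
        · rintro (h | h)
          · left; exact Subtype.ext h
          · right; exact Subtype.ext h }
  exact card_le_of_setting S

end stage1

section count

variable {E G : Type*} [Group E] [Group G]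

/-- the counting argument -/
theorem count_main (σ : E →* G) (hs : Function.Surjective σ) (hG : Nat.card G = 3265920)
    (H : Subgroup E) [Finite H] (hH : Nat.card H ≤ 6048) [Finite (E ⧸ H)] (Z : Subgroup E) [Finite Z]
    (hZ : Z ≤ σ.ker) (hq : Nat.card (E ⧸ H) ≤ 540 * Nat.card Z) :
    Finite E ∧ σ.ker = Z := by
  have hfin : Finite E := Finite.of_equiv _ (Subgroup.groupEquivQuotientProdSubgroup (s := H)).symm
  refine ⟨hfin, ?_⟩
  have h1 : Nat.card E = Nat.card (E ⧸ H) * Nat.card H :=
    Subgroup.card_eq_card_quotient_mul_card_subgroup H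
  have h2 : Nat.card E = Nat.card σ.ker * Nat.card G :=
    Cfsg.Agent.Lib.H28.StemTools.card_eq_card_ker_mul σ hs
  have h3 : Nat.card σ.ker * 3265920 ≤ Nat.card Z * 3265920 := by
    calc Nat.card σ.ker * 3265920 = Nat.card E := by rw [h2, hG]
      _ = Nat.card (E ⧸ H) * Nat.card H := h1
      _ ≤ (540 * Nat.card Z) * 6048 := Nat.mul_le_mul hq hH
      _ = Nat.card Z * 3265920 := by ring
  have h4 : Nat.card σ.ker ≤ Nat.card Z := Nat.le_of_mul_le_mul_right h3 (by norm_num)
  symm
  exact Subgroup.eq_of_le_of_card_ge hZ h4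

/-- the subgroup generated by the first two of three elements satisfying the stage 2 relators in a group of
order `3265920` has at least `6048` elements -/
theorem card_closure_ge (hG : Nat.card G = 3265920) (am bm cm : G)
    (hrel : ∀ w ∈ Cert.exactL ++ (Cert.symL ++ Cert.cenL), wv am bm cm w = 1)
    (hgen : closure {am, bm, cm} = ⊤) :
    6048 ≤ Nat.card (closure ({am, bm} : Set G)) := by
  have hfin : Finite G := Nat.finite_of_card_ne_zero (by rw [hG]; norm_num)
  have S : Setting am bm cm (⊥ : Subgroup G) :=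
    { central := bot_le
      disj := fun x _ hx => Subgroup.mem_bot.mp hx
      exact := fun w hw => hrel w (List.mem_append_left _ hw)
      rel := fun w hw => by rw [hrel w (List.mem_append_right _ hw)]; exact one_mem _
      gen := hgen }
  obtain ⟨hx, hy, -, -, -, -, hq⟩ := mono_main S
  have hbot : closure {(wv am bm cm xW)⁻¹, (wv am bm cm yW)⁻¹} = (⊥ : Subgroup G) := by
    rw [eq_bot_iff, closure_le]
    intro g hg
    simp only [Set.mem_insert_iff, Set.mem_singleton_iff] at hg
    rcases hg with rfl | rfl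
    · exact hx
    · exact hy
  rw [hbot, Subgroup.card_bot, mul_one] at hq
  have h1 := Subgroup.card_eq_card_quotient_mul_card_subgroup (closure ({am, bm} : Set G))
  rw [hG] at h1
  by_contra hlt
  push_neg at hlt
  have : Nat.card (G ⧸ closure ({am, bm} : Set G)) * Nat.card (closure ({am, bm} : Set G)) ≤
      540 * 6047 := Nat.mul_le_mul hq (by omega)
  omega

/-- a homomorphism is injective on `⟨a, b⟩` if this subgroup is not larger than its image -/
theorem inj_on_closure (σ : E →* G) [Finite G] (a b : E) (hKfin : Finite (closure ({a, b} : Set E)))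
    (hK : Nat.card (closure ({a, b} : Set E)) ≤ 6048)
    (hU : 6048 ≤ Nat.card (closure ({σ a, σ b} : Set G))) :
    ∀ x ∈ closure ({a, b} : Set E), σ x = 1 → x = 1 := by
  set K0 : Subgroup E := closure {a, b} with hK0
  let τ : ↥K0 →* G := σ.comp K0.subtype
  have hsurj : Function.Surjective τ.rangeRestrict := MonoidHom.rangeRestrict_surjective _
  have hrange : τ.range = closure ({σ a, σ b} : Set G) := by
    rw [MonoidHom.range_eq_map, ← Subgroup.map_map, ← MonoidHom.range_eq_map, Subgroup.range_subtype,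
      hK0, MonoidHom.map_closure, Set.image_insert_eq, Set.image_singleton]
  have hcard : Nat.card ↥K0 ≤ Nat.card τ.range := by
    rw [hrange]
    exact le_trans hK hU
  have hbij := Function.Surjective.bijective_of_nat_card_le hsurj hcard
  intro x hx hx1
  have h1 : τ.rangeRestrict ⟨x, hx⟩ = τ.rangeRestrict 1 := by
    apply Subtype.ext
    rw [map_one]
    exact hx1
  exact congrArg Subtype.val (hbij.1 h1)

/-- the core theorem -/
theorem core (σ : E →* G) (hs : Function.Surjective σ) (hG : Nat.card G = 3265920)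
    (a b c : E) (hKfin : Finite (closure ({a, b} : Set E)))
    (hK : Nat.card (closure ({a, b} : Set E)) ≤ 6048)
    (hinj : ∀ x ∈ closure ({a, b} : Set E), σ x = 1 → x = 1)
    (hex : ∀ w ∈ Cert.exactL, wv a b c w = 1)
    (hcen : ∀ w ∈ Cert.symL ++ Cert.cenL, wv a b c w ∈ σ.ker ⊓ center E)
    (hgen : closure {a, b, c} = ⊤) :
    Finite E ∧ ((wv a b c xW)⁻¹) ^ 12 = 1 ∧ ((wv a b c yW)⁻¹) ^ 3 = 1 ∧
      σ.ker = closure {(wv a b c xW)⁻¹, (wv a b c yW)⁻¹} ∧ σ.ker ≤ center E := by
  have S : Setting a b c (σ.ker ⊓ center E) :=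
    { central := inf_le_right
      disj := fun x hx hxA => hinj x hx (MonoidHom.mem_ker.1 hxA.1)
      exact := hex
      rel := hcen
      gen := hgen }
  obtain ⟨hxA, hyA, hx12, hy3, hfinQ, hfinZ, hq⟩ := mono_main S
  have hZle : closure {(wv a b c xW)⁻¹, (wv a b c yW)⁻¹} ≤ σ.ker ⊓ center E := by
    rw [closure_le]
    intro g hg
    simp only [Set.mem_insert_iff, Set.mem_singleton_iff] at hg
    rcases hg with rfl | rfl
    · exact hxA
    · exact hyA
  obtain ⟨hfin, hker⟩ := count_main σ hs hG (closure {a, b}) hK _ (le_trans hZle inf_le_left) hq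
  refine ⟨hfin, hx12, hy3, hker, ?_⟩
  rw [hker]
  exact le_trans hZle inf_le_right

/-- a cyclic subgroup of prime order on which a homomorphism is nontrivial meets its kernel trivially -/
theorem zpowers_inf_ker (τ : E →* G) (a : E) (p : ℕ) (hp : p.Prime)
    (ha : a ^ p = 1) (hτ : τ a ≠ 1) : ∀ x ∈ closure ({a} : Set E), τ x = 1 → x = 1 := by
  intro x hx hx1
  rw [← zpowers_eq_closure] at hx
  obtain ⟨k, rfl⟩ := mem_zpowers_iff.mp hx
  have ho : orderOf (τ a) = p := by
    have := orderOf_dvd_of_pow_eq_one (show (τ a) ^ p = 1 by rw [← map_pow, ha, map_one])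
    rcases (Nat.dvd_prime hp).1 this with h | h
    · exact absurd (orderOf_eq_one_iff.1 h) hτ
    · exact h
  rw [map_zpow] at hx1
  have hd : (p : ℤ) ∣ k := by
    rw [← ho]
    exact orderOf_dvd_iff_zpow_eq_one.mpr hx1
  obtain ⟨m, rfl⟩ := hd
  rw [zpow_mul, zpow_natCast, ha, one_zpow]

end count

section rels

variable {K : Type*} [Group K] (x y z : K)

/-- the word conjugating `a` to its square -/
def waL : List ℕ := [2, 0, 3, 1, 3, 3]

/-- the word conjugating `b` to its square -/
def wbL : List ℕ := [0, 3, 0, 3, 3, 0]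

/-- the word inverting `c` -/
def wcL : List ℕ := [0, 2, 5, 3, 0, 4, 2, 1]

/-- the inverse letter -/
def flipL (x : ℕ) : ℕ :=
  match x with
  | 0 => 1 | 1 => 0 | 2 => 3 | 3 => 2 | 4 => 5 | 5 => 4 | k => k

/-- the inverse word -/
def invW (w : List ℕ) : List ℕ := (w.map flipL).reverse

theorem gl_flipL (i : ℕ) : gl x y z (flipL i) = (gl x y z i)⁻¹ := by
  rcases i with _ | _ | _ | _ | _ | _ | n
  · rfl
  · exact (inv_inv x).symm
  · rfl
  · exact (inv_inv y).symm
  · rfl
  · exact (inv_inv z).symm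
  · have h1 : flipL (n + 6) = n + 6 := rfl
    have h2 : gl x y z (n + 6) = 1 := rfl
    rw [h1, h2, inv_one]

theorem wv_invW (w : List ℕ) : wv x y z (invW w) = (wv x y z w)⁻¹ := by
  induction w with
  | nil => simp [invW, wv]
  | cons i w ih =>
    have e : invW (i :: w) = invW w ++ [flipL i] := by
      unfold invW
      rw [List.map_cons, List.reverse_cons]
    rw [e, wv_append, ih]
    unfold wv
    rw [List.map_cons, List.map_cons, List.map_nil, List.prod_cons, List.prod_cons, List.prod_nil, mul_one,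
      gl_flipL, mul_inv_rev]

theorem gl2_flipL (i : ℕ) (hi : i < 4) : U33M.gl x y (flipL i) = (U33M.gl x y i)⁻¹ := by
  interval_cases i
  · rfl
  · exact (inv_inv x).symm
  · rfl
  · exact (inv_inv y).symm

theorem wv2_invW (w : List ℕ) (hw : ∀ i ∈ w, i < 4) :
    U33M.wv x y (invW w) = (U33M.wv x y w)⁻¹ := by
  induction w with
  | nil => simp [invW, U33M.wv]
  | cons i w ih =>
    have e : invW (i :: w) = invW w ++ [flipL i] := by
      unfold invW
      rw [List.map_cons, List.reverse_cons]
    rw [e, wv2_append, ih (fun j hj => hw j (List.mem_cons_of_mem _ hj))]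
    unfold U33M.wv
    rw [List.map_cons, List.map_cons, List.map_nil, List.prod_cons, List.prod_cons, List.prod_nil, mul_one,
      gl2_flipL x y i (hw i List.mem_cons_self), mul_inv_rev]

/-- the third exact relator of stage 1 -/
theorem s1rel2_iff : U33M.wv x y [2, 0, 3, 1, 3, 3, 0, 2, 2, 0, 2, 1, 3, 1, 1] = 1 ↔
    U33M.wv x y waL * x * (U33M.wv x y waL)⁻¹ = x ^ 2 := by
  have hw : [2, 0, 3, 1, 3, 3, 0, 2, 2, 0, 2, 1, 3, 1, 1] = waL ++ ([0] ++ (invW waL ++ [1, 1])) := by
    decide
  have h0 : U33M.wv x y [0] = x := by simp [U33M.wv, U33M.gl]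
  have h1 : U33M.wv x y [1, 1] = x⁻¹ * x⁻¹ := by simp [U33M.wv, U33M.gl]
  have e : U33M.wv x y [2, 0, 3, 1, 3, 3, 0, 2, 2, 0, 2, 1, 3, 1, 1] =
      (U33M.wv x y waL * x * (U33M.wv x y waL)⁻¹) * (x ^ 2)⁻¹ := by
    rw [hw, wv2_append, wv2_append, wv2_append, wv2_invW x y waL (by decide), h0, h1]; group
  rw [e, mul_inv_eq_one]

/-- the fourth exact relator of stage 1 -/
theorem s1rel3_iff : U33M.wv x y [0, 3, 0, 3, 3, 0, 2, 1, 2, 2, 1, 2, 1, 3, 3] = 1 ↔
    U33M.wv x y wbL * y * (U33M.wv x y wbL)⁻¹ = y ^ 2 := by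
  have hw : [0, 3, 0, 3, 3, 0, 2, 1, 2, 2, 1, 2, 1, 3, 3] = wbL ++ ([2] ++ (invW wbL ++ [3, 3])) := by
    decide
  have h0 : U33M.wv x y [2] = y := by simp [U33M.wv, U33M.gl]
  have h1 : U33M.wv x y [3, 3] = y⁻¹ * y⁻¹ := by simp [U33M.wv, U33M.gl]
  have e : U33M.wv x y [0, 3, 0, 3, 3, 0, 2, 1, 2, 2, 1, 2, 1, 3, 3] =
      (U33M.wv x y wbL * y * (U33M.wv x y wbL)⁻¹) * (y ^ 2)⁻¹ := by
    rw [hw, wv2_append, wv2_append, wv2_append, wv2_invW x y wbL (by decide), h0, h1]; group
  rw [e, mul_inv_eq_one]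

/-- the exact relators of stage 1 -/
theorem exact1_iff : (∀ w ∈ U33M.Cert.exactL, U33M.wv x y w = 1) ↔
    (x ^ 7 = 1 ∧ y ^ 7 = 1 ∧ U33M.wv x y waL * x * (U33M.wv x y waL)⁻¹ = x ^ 2 ∧
      U33M.wv x y wbL * y * (U33M.wv x y wbL)⁻¹ = y ^ 2) := by
  rw [← s1rel2_iff x y, ← s1rel3_iff x y, ← wv2_replicate0 x y 7, ← wv2_replicate2 x y 7]
  simp only [U33M.Cert.exactL, List.mem_cons, List.not_mem_nil, or_false, forall_eq_or_imp, forall_eq,
    List.replicate]

/-- the second exact relator of stage 2 -/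
theorem s2rel1_iff : wv x y z [0, 2, 5, 3, 0, 4, 2, 1, 4, 0, 3, 5, 1, 2, 4, 3, 1, 4] = 1 ↔
    wv x y z wcL * z * (wv x y z wcL)⁻¹ = z⁻¹ := by
  have hw : [0, 2, 5, 3, 0, 4, 2, 1, 4, 0, 3, 5, 1, 2, 4, 3, 1, 4] = wcL ++ ([4] ++ (invW wcL ++ [4])) := by
    decide
  have h0 : wv x y z [4] = z := by simp [wv, gl]
  have e : wv x y z [0, 2, 5, 3, 0, 4, 2, 1, 4, 0, 3, 5, 1, 2, 4, 3, 1, 4] =
      (wv x y z wcL * z * (wv x y z wcL)⁻¹) * z := by
    rw [hw, wv_append, wv_append, wv_append, wv_invW, h0]; group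
  rw [e, mul_eq_one_iff_eq_inv]

/-- the exact relators of stage 2 either are words in the first two generators or one of two relators -/
theorem exact2_cases : ∀ w ∈ Cert.exactL, (∀ i ∈ w, i < 4) ∨ w = List.replicate 5 4 ∨
    w = [0, 2, 5, 3, 0, 4, 2, 1, 4, 0, 3, 5, 1, 2, 4, 3, 1, 4] := by
  decide

/-- the relators make the three elements products of commutators -/
theorem mem_commutator_of_exact (h1 : ∀ w ∈ U33M.Cert.exactL, U33M.wv x y w = 1)
    (h2 : ∀ w ∈ Cert.exactL, wv x y z w = 1) :
    x ∈ commutator K ∧ y ∈ commutator K ∧ z ∈ commutator K := by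
  obtain ⟨-, -, ha, hb⟩ := (exact1_iff x y).1 h1
  have hz5 : z ^ 5 = 1 := by
    have := h2 (List.replicate 5 4) (by decide)
    rwa [wv_replicate] at this
  have hc := (s2rel1_iff x y z).1 (h2 _ (by decide))
  have hcm : ∀ p q : K, ⁅p, q⁆ ∈ commutator K := fun p q =>
    Subgroup.commutator_mem_commutator (Subgroup.mem_top p) (Subgroup.mem_top q)
  refine ⟨?_, ?_, ?_⟩
  · have e : ⁅U33M.wv x y waL, x⁆ = x := by
      rw [commutatorElement_def, ha]; group
    rw [← e]; exact hcm _ _
  · have e : ⁅U33M.wv x y wbL, y⁆ = y := by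
      rw [commutatorElement_def, hb]; group
    rw [← e]; exact hcm _ _
  · have e : ⁅wv x y z wcL, z⁆ = (z ^ 2)⁻¹ := by
      rw [commutatorElement_def, hc]; group
    have hz2 : z ^ 2 ∈ commutator K := by
      have := inv_mem (hcm (wv x y z wcL) z)
      rw [e, inv_inv] at this
      exact this
    have e2 : z = (z ^ 2) ^ 3 * (z ^ 5)⁻¹ := by group
    rw [e2, hz5, inv_one, mul_one]
    exact pow_mem hz2 3

end rels

end Cfsg.Agent.Lib.H6.U43M
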