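import Cfsg.Agent.Lib.H6.U43M.Cert.Run
import Cfsg.Agent.Lib.H6.U43M.Cert.Alg
import Cfsg.Agent.Lib.H6.U43M.Cert.Lists

set_option autoImplicit false
set_option maxRecDepth 100000

/-!
# The monomial certificate applied to a group with three marked elements (generated glue)

`Setting ga gb gc A`: the exact relators hold for `ga gb gc`, all other relators have values in the
central subgroup `A`, which meets `⟨ga, gb⟩` trivially, and `ga gb gc` generate.  Conclusion: with `X`, `W`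
the inverses of the values of the symbol relators `xW`, `yW`: `X ^ 12 = 1`, `W ^ 3 = 1` and `⟨ga, gb⟩`
has at most `540 * |⟨X, W⟩|` cosets.  (Adapted from helper17's `Lib/H17/M22M/MonoGlue.lean` and
`Lib/H17/L34M/Glue.lean`.)
-/

namespace Cfsg.Agent.Lib.H6.U43M

open Cfsg.Agent.Lib.H17.CosetCert (WT act)
open Cfsg.Agent.Lib.H17.MonoCert

section

variable {Γ : Type*} [Group Γ] (ga gb gc : Γ)

/-- the letters -/
def gl (x : ℕ) : Γ :=
  match x with
  | 0 => ga | 1 => ga⁻¹ | 2 => gb | 3 => gb⁻¹ | 4 => gc | 5 => gc⁻¹ | _ => 1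

/-- the value of a word -/
def wv (w : List ℕ) : Γ := (w.map (gl ga gb gc)).prod

theorem act_inv' {Q : Type*} [MulAction Γ Q] (g : ℕ → Γ) (u : List ℕ) (q : Q) :
    act (fun x => (g x)⁻¹) u q = ((u.map g).prod)⁻¹ • q := by
  induction u generalizing q with
  | nil => simp [act]
  | cons x u ih =>
    change act (fun x => (g x)⁻¹) u ((g x)⁻¹ • q) = _
    rw [ih, List.map_cons, List.prod_cons, mul_inv_rev, mul_smul]

/-- the hypotheses -/
structure Setting (A : Subgroup Γ) : Prop where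
  central : A ≤ Subgroup.center Γ
  disj : ∀ x ∈ Subgroup.closure {ga, gb}, x ∈ A → x = 1
  exact : ∀ w ∈ Cert.exactL, wv ga gb gc w = 1
  rel : ∀ w ∈ Cert.symL ++ Cert.cenL, wv ga gb gc w ∈ A
  gen : Subgroup.closure {ga, gb, gc} = ⊤

theorem wv_pair : ∀ w ∈ Cert.pairL, wv ga gb gc w = 1 := by
  intro w hw
  simp only [Cert.pairL, List.mem_cons, List.not_mem_nil, or_false] at hw
  rcases hw with rfl | rfl | rfl | rfl | rfl | rfl <;> simp [wv, gl]

variable {ga gb gc}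

theorem Setting.rel_all {A : Subgroup Γ} (S : Setting ga gb gc A) :
    ∀ w ∈ Cert.relL, wv ga gb gc w ∈ A := by
  intro w hw
  rcases Cert.rel_cases w hw with h | h
  · rcases List.mem_append.mp h with h1 | h1
    · rw [S.exact w h1]; exact one_mem _
    · rw [wv_pair ga gb gc w h1]; exact one_mem _
  · exact S.rel w h

end

section main

variable {Γ : Type*} [Group Γ] {ga gb gc : Γ} {A : Subgroup Γ}

/-- the word of the first central generator -/
def xW : List ℕ := [1, 1, 1, 4, 0, 2, 4, 3, 0, 2, 4, 3, 3]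

/-- the word of the second central generator -/
def yW : List ℕ := [1, 1, 1, 4, 2, 0, 2, 1, 1, 4, 3, 5, 3]

open Classical in
/-- the inverse of the value of a word, as an element of `A` (`1` if the value is not in `A`) -/
noncomputable def ρA (ga gb gc : Γ) (A : Subgroup Γ) (w : List ℕ) : A :=
  if h : wv ga gb gc w ∈ A then ⟨(wv ga gb gc w)⁻¹, A.inv_mem h⟩ else 1

theorem ρA_coe (w : List ℕ) (h : wv ga gb gc w ∈ A) :
    ((ρA ga gb gc A w : A) : Γ) = (wv ga gb gc w)⁻¹ := by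
  unfold ρA
  rw [dif_pos h]

/-- a central subgroup is commutative -/
@[reducible] def commGroupOfCentral (A : Subgroup Γ) (h : A ≤ Subgroup.center Γ) : CommGroup A :=
  { (inferInstance : Group A) with
    mul_comm := fun a b => Subtype.ext (Subgroup.mem_center_iff.mp (h b.2) a) }

theorem smulComm (S : Setting ga gb gc A) :
    SMulCommClass Γ A (Γ ⧸ Subgroup.closure {ga, gb}) := by
  constructor
  intro x a q
  change x • ((a : Γ) • q) = (a : Γ) • (x • q)
  rw [← mul_smul, ← mul_smul, Subgroup.mem_center_iff.mp (S.central a.2) x]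

theorem free_of_setting (S : Setting ga gb gc A) (α β : A)
    (q : Γ ⧸ Subgroup.closure {ga, gb}) (h : α • q = β • q) : α = β := by
  induction q using Quotient.inductionOn' with
  | h x =>
    have h1 : (((α : Γ) * x : Γ) : Γ ⧸ Subgroup.closure {ga, gb}) = (((β : Γ) * x : Γ) : _) := h
    rw [QuotientGroup.eq] at h1
    have hc : ((α : Γ) * x)⁻¹ * ((β : Γ) * x) = (α : Γ)⁻¹ * (β : Γ) := by
      have hcen : x⁻¹ * ((α : Γ)⁻¹ * (β : Γ)) = ((α : Γ)⁻¹ * (β : Γ)) * x⁻¹ :=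
        Subgroup.mem_center_iff.mp (S.central (A.mul_mem (A.inv_mem α.2) β.2)) x⁻¹
      calc ((α : Γ) * x)⁻¹ * ((β : Γ) * x) = (x⁻¹ * ((α : Γ)⁻¹ * (β : Γ))) * x := by group
        _ = ((α : Γ)⁻¹ * (β : Γ)) * x⁻¹ * x := by rw [hcen]
        _ = (α : Γ)⁻¹ * (β : Γ) := by group
    rw [hc] at h1
    have h2 := S.disj _ h1 (A.mul_mem (A.inv_mem α.2) β.2)
    apply Subtype.ext
    exact inv_mul_eq_one.mp h2

theorem gens_top (S : Setting ga gb gc A) :
    Subgroup.closure {g : Γ | ∃ x < 6, g = (gl ga gb gc x)⁻¹} = ⊤ := by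
  rw [eq_top_iff, ← S.gen, Subgroup.closure_le]
  intro g hg
  simp only [Set.mem_insert_iff, Set.mem_singleton_iff] at hg
  apply Subgroup.subset_closure
  rcases hg with rfl | rfl | rfl
  · exact ⟨1, by norm_num, by simp [gl]⟩
  · exact ⟨3, by norm_num, by simp [gl]⟩
  · exact ⟨5, by norm_num, by simp [gl]⟩

theorem letters_inv : ∀ x < 6, ∃ y < 6, (gl ga gb gc y)⁻¹ = ((gl ga gb gc x)⁻¹)⁻¹ := by
  intro x hx
  interval_cases x
  · exact ⟨1, by norm_num, by simp [gl]⟩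
  · exact ⟨0, by norm_num, by simp [gl]⟩
  · exact ⟨3, by norm_num, by simp [gl]⟩
  · exact ⟨2, by norm_num, by simp [gl]⟩
  · exact ⟨5, by norm_num, by simp [gl]⟩
  · exact ⟨4, by norm_num, by simp [gl]⟩

/-- the list of the symbol values -/
noncomputable def ζs (ga gb gc : Γ) (A : Subgroup Γ) : List A := Cert.symL.map (ρA ga gb gc A)

theorem wordsOK (S : Setting ga gb gc A) :
    letI := commGroupOfCentral A S.central
    haveI := smulComm S
    WordsOK Cert.Ev (ltw (ζs ga gb gc A)) (fun x => (gl ga gb gc x)⁻¹)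
      (((1 : Γ) : Γ ⧸ Subgroup.closure {ga, gb})) Cert.words 34 := by
  let _ := commGroupOfCentral A S.central
  intro w wd r hget
  have hm := WT.get_mem Cert.words w (wd, r) hget
  obtain ⟨h1, h2⟩ := Cert.words_mem _ hm
  refine ⟨fun hr => ?_, fun hr hw => ?_, fun hr => ?_⟩
  · have hA := S.rel_all wd (h1 hr)
    refine ⟨⟨(wv ga gb gc wd)⁻¹, A.inv_mem hA⟩, fun q => ?_⟩
    rw [act_inv']
    rfl
  · subst hr
    have hs := Cert.seed_mem w hw
    unfold Cert.seedChk at hs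
    rw [hget] at hs
    simp only [decide_eq_true_eq] at hs
    intro q
    rw [act_inv']
    rcases Cert.seed_cases _ hs with ⟨he, hmem⟩ | hz
    · simp only [] at he hmem
      have hv : wv ga gb gc wd = 1 := by
        rcases List.mem_append.mp hmem with h | h
        · exact S.exact wd h
        · exact wv_pair ga gb gc wd h
      change (wv ga gb gc wd)⁻¹ • q = _
      rw [hv, he, ltw_replicate_zero, inv_one, one_smul, one_smul]
    · simp only [Cert.symL, Cert.unitL, List.zip_cons_cons, List.zip_nil_right, List.mem_cons,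
        Prod.mk.injEq, List.not_mem_nil, or_false] at hz
      have key : ∀ wd' (hwd : wd' ∈ Cert.symL ++ Cert.cenL) (e : List ℤ),
          ltw (ζs ga gb gc A) e = ρA ga gb gc A wd' → wd = wd' → Cert.Ev w = e →
          ((List.map (gl ga gb gc) wd).prod)⁻¹ • q = ltw (ζs ga gb gc A) (Cert.Ev w) • q := by
        intro wd' hwd e he hw1 hw2
        rw [hw2, he, hw1]
        change _ = ((ρA ga gb gc A wd' : A) : Γ) • q
        rw [ρA_coe wd' (S.rel wd' hwd)]
        rfl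
      rcases hz with ⟨a, b⟩ | ⟨a, b⟩ | ⟨a, b⟩ | ⟨a, b⟩ | ⟨a, b⟩ | ⟨a, b⟩ | ⟨a, b⟩ | ⟨a, b⟩ | ⟨a, b⟩ | ⟨a, b⟩ | ⟨a, b⟩
      · exact key _ (by decide) _ (by simp [ζs, Cert.symL, ltw]) a b
      · exact key _ (by decide) _ (by simp [ζs, Cert.symL, ltw]) a b
      · exact key _ (by decide) _ (by simp [ζs, Cert.symL, ltw]) a b
      · exact key _ (by decide) _ (by simp [ζs, Cert.symL, ltw]) a b
      · exact key _ (by decide) _ (by simp [ζs, Cert.symL, ltw]) a b
      · exact key _ (by decide) _ (by simp [ζs, Cert.symL, ltw]) a b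
      · exact key _ (by decide) _ (by simp [ζs, Cert.symL, ltw]) a b
      · exact key _ (by decide) _ (by simp [ζs, Cert.symL, ltw]) a b
      · exact key _ (by decide) _ (by simp [ζs, Cert.symL, ltw]) a b
      · exact key _ (by decide) _ (by simp [ζs, Cert.symL, ltw]) a b
      · exact key _ (by decide) _ (by simp [ζs, Cert.symL, ltw]) a b
  · have hsub := h2 hr
    rw [act_inv']
    have hmem : (List.map (gl ga gb gc) wd).prod ∈ Subgroup.closure {ga, gb} := by
      simp only [Cert.subL, List.mem_cons, List.not_mem_nil, or_false] at hsub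
      rcases hsub with rfl | rfl
      · simp only [List.map_cons, List.map_nil, List.prod_cons, List.prod_nil, mul_one, gl]
        exact Subgroup.subset_closure (by simp)
      · simp only [List.map_cons, List.map_nil, List.prod_cons, List.prod_nil, mul_one, gl]
        exact Subgroup.subset_closure (by simp)
    rw [MulAction.Quotient.smul_mk, QuotientGroup.eq]
    simpa using hmem

end main

section final

variable {Γ : Type*} [Group Γ] {ga gb gc : Γ} {A : Subgroup Γ}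

/-- reduction of an integer power -/
theorem zpow_fin {K : Type*} [Group K] (u : K) (n : ℕ) (hn : 0 < n) (h : u ^ n = 1) (i : ℤ) :
    ∃ j : Fin n, u ^ i = u ^ (j : ℕ) := by
  have h1 : 0 ≤ i % (n : ℤ) := Int.emod_nonneg _ (by exact_mod_cast hn.ne')
  have h2 : i % (n : ℤ) < n := Int.emod_lt_of_pos _ (by exact_mod_cast hn)
  refine ⟨⟨(i % (n : ℤ)).toNat, by omega⟩, ?_⟩
  rw [zpow_eq_zpow_emod' i h]
  change u ^ (i % (n : ℤ)) = u ^ ((i % (n : ℤ)).toNat)
  rw [← zpow_natCast, Int.toNat_of_nonneg h1]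

theorem mem_of_mul_eq_one {K : Type*} [Group K] (L : Subgroup K) {x r : K} (h : x * r = 1)
    (hr : r ∈ L) : x ∈ L := by
  rw [eq_inv_of_mul_eq_one_left h]
  exact L.inv_mem hr

/-- **Main theorem of the certificate.** -/
theorem mono_main (S : Setting ga gb gc A) :
    (wv ga gb gc xW)⁻¹ ∈ A ∧ (wv ga gb gc yW)⁻¹ ∈ A ∧ ((wv ga gb gc xW)⁻¹) ^ 12 = 1 ∧
      ((wv ga gb gc yW)⁻¹) ^ 3 = 1 ∧
      Finite (Γ ⧸ Subgroup.closure {ga, gb}) ∧
      Finite (Subgroup.closure {(wv ga gb gc xW)⁻¹, (wv ga gb gc yW)⁻¹}) ∧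
      Nat.card (Γ ⧸ Subgroup.closure {ga, gb}) ≤
        540 * Nat.card (Subgroup.closure {(wv ga gb gc xW)⁻¹, (wv ga gb gc yW)⁻¹}) := by
  let _ := commGroupOfCentral A S.central
  have := smulComm S
  have hxmem : wv ga gb gc xW ∈ A := S.rel xW (by decide)
  have hymem : wv ga gb gc yW ∈ A := S.rel yW (by decide)
  set Q := Γ ⧸ Subgroup.closure {ga, gb} with hQ
  set q0 : Q := ((1 : Γ) : Q) with hq0
  set tw : List ℤ → A := ltw (ζs ga gb gc A) with htw_def
  set γ : ℕ → Γ := fun x => (gl ga gb gc x)⁻¹ with hγ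
  have htw : TwOK ladd (List.replicate 11 0) leq tw := ltw_ok _ 11
  have hfree : ∀ (α β : A) (q : Q), α • q = β • q → α = β := free_of_setting S
  have hw := wordsOK S
  have hI := Cert.run tw γ hfree htw q0 hw
  obtain ⟨c, hc0, hwords, hcov⟩ := covered Cert.F Cert.Ev 6 65536 tw γ q0 Cert.words 3240 540 47
    hI Cert.rows Cert.rows_ok Cert.rows_length (gens_top S) letters_inv
  -- the relations
  have hrel : ∀ p ∈ Cert.relPairs, tw p.2.2 = 1 := by
    intro p hp
    have hchk := Cert.rel_chk p hp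
    unfold Cert.relChk at hchk
    rcases h1 : WT.get Cert.words p.1 with _ | ⟨wd1, r1⟩
    · rw [h1] at hchk; exact absurd hchk (by simp)
    · rcases h2 : WT.get Cert.words p.2.1 with _ | ⟨wd2, r2⟩
      · rw [h1, h2] at hchk
        cases r1 <;> exact absurd hchk (by simp)
      · rw [h1, h2] at hchk
        cases r1 with
        | false => exact absurd hchk (by simp)
        | true =>
          cases r2 with
          | false => exact absurd hchk (by simp)
          | true =>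
            simp only [Bool.and_eq_true, decide_eq_true_eq] at hchk
            obtain ⟨⟨⟨hwd, hev⟩, hlt1⟩, hlt2⟩ := hchk
            subst hwd
            have e1 := hwords p.1 hlt1 wd1 h1 q0
            have e2 := hwords p.2.1 hlt2 wd1 h2 q0
            have e3 : tw (Cert.Ev p.1) = tw (Cert.Ev p.2.1) := hfree _ _ q0 (e1.symm.trans e2)
            rw [hev, htw.add] at e3
            exact (mul_eq_left.mp e3.symm)
  -- the algebra
  have hζ : ζs ga gb gc A = [ρA ga gb gc A [3, 5, 3, 5, 3, 5],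
      ρA ga gb gc A [1, 5, 1, 5, 1, 5, 1, 5, 1, 5],
      ρA ga gb gc A [3, 4, 3, 4, 3, 4, 3, 4, 3, 4],
      ρA ga gb gc A [1, 1, 5, 1, 1, 5, 1, 1, 5, 1, 1, 5],
      ρA ga gb gc A [1, 3, 0, 5, 0, 5, 5, 3, 0, 4, 0, 4],
      ρA ga gb gc A [1, 3, 5, 1, 2, 0, 5, 3, 5, 0, 2, 4],
      ρA ga gb gc A [1, 3, 4, 1, 2, 2, 1, 3, 4, 1, 2, 2],
      ρA ga gb gc A [1, 1, 1, 5, 1, 3, 3, 3, 1, 2, 2, 5, 2],
      ρA ga gb gc A [1, 1, 5, 3, 5, 0, 3, 3, 1, 5, 2, 1, 2],
      ρA ga gb gc A [1, 1, 1, 4, 0, 2, 4, 3, 0, 2, 4, 3, 3],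
      ρA ga gb gc A [1, 1, 1, 4, 2, 0, 2, 1, 1, 4, 3, 5, 3]] := rfl
  have hR : ∀ v ∈ Cert.relPairs.map (fun p => p.2.2), tw v = 1 := by
    intro v hv
    obtain ⟨p, hp, rfl⟩ := List.mem_map.mp hv
    exact hrel p hp
  rw [htw_def, hζ] at hR
  obtain ⟨hX12, hW3, hz0, hz1, hz2, hz3, hz4, hz5, hz6, hz7, hz8, -⟩ := Cert.rel_alg _ _ _ _ _ _ _ _ _ _ _
    (hR _ (by decide))
    (hR _ (by decide))
    (hR _ (by decide))
    (hR _ (by decide))
    (hR _ (by decide))
    (hR _ (by decide))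
    (hR _ (by decide))
    (hR _ (by decide))
    (hR _ (by decide))
    (hR _ (by decide))
    (hR _ (by decide))
    (hR _ (by decide))
  set u : A := ρA ga gb gc A xW with hu
  set v : A := ρA ga gb gc A yW with hv
  have hucoe : (u : Γ) = (wv ga gb gc xW)⁻¹ := ρA_coe xW hxmem
  have hvcoe : (v : Γ) = (wv ga gb gc yW)⁻¹ := ρA_coe yW hymem
  have huX : u ^ 12 = 1 := by
    have h : u ^ (12 : ℤ) = 1 := by simpa [ltw, xW, yW, hu, hv] using hX12
    have h' : u ^ ((12 : ℕ) : ℤ) = 1 := h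
    rwa [zpow_natCast] at h'
  have hvW : v ^ 3 = 1 := by
    have h : v ^ (3 : ℤ) = 1 := by simpa [ltw, xW, yW, hu, hv] using hW3
    have h' : v ^ ((3 : ℕ) : ℤ) = 1 := h
    rwa [zpow_natCast] at h'
  -- all twists are products of powers of `u` and `v`
  have hU : ∀ i : ℤ, u ^ i ∈ Subgroup.zpowers u ⊔ Subgroup.zpowers v := fun i =>
    Subgroup.mem_sup_left (Subgroup.zpow_mem_zpowers _ _)
  have hV : ∀ i : ℤ, v ^ i ∈ Subgroup.zpowers u ⊔ Subgroup.zpowers v := fun i =>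
    Subgroup.mem_sup_right (Subgroup.zpow_mem_zpowers _ _)
  have hm0 : ρA ga gb gc A [3, 5, 3, 5, 3, 5] ∈ Subgroup.zpowers u ⊔ Subgroup.zpowers v := by
    have h : ρA ga gb gc A [3, 5, 3, 5, 3, 5] * u ^ (-9 : ℤ) = 1 := by simpa [ltw, xW, yW, hu, hv] using hz0
    exact mem_of_mul_eq_one _ h (hU _)
  have hm1 : ρA ga gb gc A [1, 5, 1, 5, 1, 5, 1, 5, 1, 5] ∈ Subgroup.zpowers u ⊔ Subgroup.zpowers v := by
    have h : ρA ga gb gc A [1, 5, 1, 5, 1, 5, 1, 5, 1, 5] * (u ^ (-3 : ℤ) * v ^ (-1 : ℤ)) = 1 := by simpa [ltw, xW, yW, hu, hv] using hz1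
    exact mem_of_mul_eq_one _ h (mul_mem (hU _) (hV _))
  have hm2 : ρA ga gb gc A [3, 4, 3, 4, 3, 4, 3, 4, 3, 4] ∈ Subgroup.zpowers u ⊔ Subgroup.zpowers v := by
    have h : ρA ga gb gc A [3, 4, 3, 4, 3, 4, 3, 4, 3, 4] * (u ^ (-9 : ℤ) * v ^ (-2 : ℤ)) = 1 := by simpa [ltw, xW, yW, hu, hv] using hz2
    exact mem_of_mul_eq_one _ h (mul_mem (hU _) (hV _))
  have hm3 : ρA ga gb gc A [1, 1, 5, 1, 1, 5, 1, 1, 5, 1, 1, 5] ∈ Subgroup.zpowers u ⊔ Subgroup.zpowers v := by
    have h : ρA ga gb gc A [1, 1, 5, 1, 1, 5, 1, 1, 5, 1, 1, 5] * (u ^ (-10 : ℤ) * v ^ (-1 : ℤ)) = 1 := by simpa [ltw, xW, yW, hu, hv] using hz3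
    exact mem_of_mul_eq_one _ h (mul_mem (hU _) (hV _))
  have hm4 : ρA ga gb gc A [1, 3, 0, 5, 0, 5, 5, 3, 0, 4, 0, 4] ∈ Subgroup.zpowers u ⊔ Subgroup.zpowers v := by
    have h : ρA ga gb gc A [1, 3, 0, 5, 0, 5, 5, 3, 0, 4, 0, 4] * (u ^ (-4 : ℤ) * v ^ (-2 : ℤ)) = 1 := by simpa [ltw, xW, yW, hu, hv] using hz4
    exact mem_of_mul_eq_one _ h (mul_mem (hU _) (hV _))
  have hm5 : ρA ga gb gc A [1, 3, 5, 1, 2, 0, 5, 3, 5, 0, 2, 4] ∈ Subgroup.zpowers u ⊔ Subgroup.zpowers v := by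
    have h : ρA ga gb gc A [1, 3, 5, 1, 2, 0, 5, 3, 5, 0, 2, 4] * (u ^ (-6 : ℤ) * v ^ (-2 : ℤ)) = 1 := by simpa [ltw, xW, yW, hu, hv] using hz5
    exact mem_of_mul_eq_one _ h (mul_mem (hU _) (hV _))
  have hm6 : ρA ga gb gc A [1, 3, 4, 1, 2, 2, 1, 3, 4, 1, 2, 2] ∈ Subgroup.zpowers u ⊔ Subgroup.zpowers v := by
    have h : ρA ga gb gc A [1, 3, 4, 1, 2, 2, 1, 3, 4, 1, 2, 2] * (u ^ (-8 : ℤ) * v ^ (-1 : ℤ)) = 1 := by simpa [ltw, xW, yW, hu, hv] using hz6
    exact mem_of_mul_eq_one _ h (mul_mem (hU _) (hV _))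
  have hm7 : ρA ga gb gc A [1, 1, 1, 5, 1, 3, 3, 3, 1, 2, 2, 5, 2] ∈ Subgroup.zpowers u ⊔ Subgroup.zpowers v := by
    have h : ρA ga gb gc A [1, 1, 1, 5, 1, 3, 3, 3, 1, 2, 2, 5, 2] * u ^ (-4 : ℤ) = 1 := by simpa [ltw, xW, yW, hu, hv] using hz7
    exact mem_of_mul_eq_one _ h (hU _)
  have hm8 : ρA ga gb gc A [1, 1, 5, 3, 5, 0, 3, 3, 1, 5, 2, 1, 2] ∈ Subgroup.zpowers u ⊔ Subgroup.zpowers v := by
    have h : ρA ga gb gc A [1, 1, 5, 3, 5, 0, 3, 3, 1, 5, 2, 1, 2] * (u ^ (-1 : ℤ) * v ^ (-1 : ℤ)) = 1 := by simpa [ltw, xW, yW, hu, hv] using hz8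
    exact mem_of_mul_eq_one _ h (mul_mem (hU _) (hV _))
  have hpow : ∀ a ∈ Subgroup.closure (Set.range tw), ∃ j : Fin 12, ∃ k : Fin 3,
      a = u ^ (j : ℕ) * v ^ (k : ℕ) := by
    intro a ha
    have hle : Subgroup.closure (Set.range tw) ≤ Subgroup.zpowers u ⊔ Subgroup.zpowers v := by
      rw [Subgroup.closure_le]
      rintro _ ⟨t, rfl⟩
      have := ltw_mem_closure (ζs ga gb gc A) t
      refine (Subgroup.closure_le _).mpr ?_ this
      intro b hb
      rw [hζ] at hb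
      simp only [List.mem_cons, List.not_mem_nil, or_false, Set.mem_ofPred_eq] at hb
      rcases hb with rfl | rfl | rfl | rfl | rfl | rfl | rfl | rfl | rfl | rfl | rfl
      · exact hm0
      · exact hm1
      · exact hm2
      · exact hm3
      · exact hm4
      · exact hm5
      · exact hm6
      · exact hm7
      · exact hm8
      · exact Subgroup.mem_sup_left (Subgroup.mem_zpowers _)
      · exact Subgroup.mem_sup_right (Subgroup.mem_zpowers _)
    obtain ⟨y, hy, z, hz, rfl⟩ := Subgroup.mem_sup.mp (hle ha)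
    obtain ⟨i, rfl⟩ := Subgroup.mem_zpowers_iff.mp hy
    obtain ⟨i', rfl⟩ := Subgroup.mem_zpowers_iff.mp hz
    obtain ⟨j, hj⟩ := zpow_fin u 12 (by norm_num) huX i
    obtain ⟨k, hk⟩ := zpow_fin v 3 (by norm_num) hvW i'
    exact ⟨j, k, by rw [hj, hk]⟩
  -- the group of twists
  set ZA : Subgroup A := Subgroup.closure {u, v} with hZA
  have huZ : u ∈ ZA := Subgroup.subset_closure (by simp)
  have hvZ : v ∈ ZA := Subgroup.subset_closure (by simp)
  -- crude counting: finiteness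
  let f0 : Fin 540 × (Fin 12 × Fin 3) → Q := fun p => (u ^ (p.2.1 : ℕ) * v ^ (p.2.2 : ℕ)) • c p.1
  have hf0 : Function.Surjective f0 := by
    intro q
    obtain ⟨i, hi, α, hα, rfl⟩ := hcov q
    obtain ⟨j, k, rfl⟩ := hpow α hα
    exact ⟨(⟨i, hi⟩, (j, k)), rfl⟩
  have hfinQ : Finite Q := Finite.of_surjective f0 hf0
  have hfinZ : Finite ZA := by
    apply Finite.of_injective (fun α : ZA => (α : A) • q0)
    intro α β hαβ
    exact Subtype.ext (hfree _ _ q0 hαβ)
  -- sharp counting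
  let f : Fin 540 × ZA → Q := fun p => (p.2 : A) • c p.1
  have hf : Function.Surjective f := by
    intro q
    obtain ⟨i, hi, α, hα, rfl⟩ := hcov q
    obtain ⟨j, k, rfl⟩ := hpow α hα
    exact ⟨(⟨i, hi⟩, ⟨_, mul_mem (pow_mem huZ _) (pow_mem hvZ _)⟩), rfl⟩
  have hcard := Nat.card_le_card_of_surjective f hf
  rw [Nat.card_prod, Nat.card_fin] at hcard
  -- transfer to `Γ`
  have hmap : (ZA.map A.subtype) = Subgroup.closure {(wv ga gb gc xW)⁻¹, (wv ga gb gc yW)⁻¹} := by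
    rw [hZA, MonoidHom.map_closure]
    congr 1
    rw [Set.image_insert_eq, Set.image_singleton]
    change ({(u : Γ), (v : Γ)} : Set Γ) = _
    rw [hucoe, hvcoe]
  have hcardZ : Nat.card (ZA.map A.subtype) = Nat.card ZA :=
    Subgroup.card_map_of_injective A.subtype_injective
  have hfinZΓ : Finite (ZA.map A.subtype) :=
    Nat.finite_of_card_ne_zero (by rw [hcardZ]; exact Nat.card_pos.ne')
  rw [← hmap]
  refine ⟨A.inv_mem hxmem, A.inv_mem hymem, ?_, ?_, hfinQ, hfinZΓ, ?_⟩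
  · rw [← hucoe, ← Subgroup.coe_pow, huX]; rfl
  · rw [← hvcoe, ← Subgroup.coe_pow, hvW]; rfl
  · rw [hcardZ]; exact hcard

end final

end Cfsg.Agent.Lib.H6.U43M
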