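import Cfsg.Agent.Lib.H6.U43M.Core

set_option autoImplicit false
set_option maxRecDepth 100000

/-!
# Finite stem extensions of a group with the `U4(3)` data (helper6)

`Base am bm cm`: three generators of a group `G` of order `3265920` such that `am bm` satisfy the relators of
the stage 1 certificate and `am bm cm` satisfy the relators of the stage 2 certificate.  Then the kernel of
every finite stem extension of `G` is generated by two elements `X`, `W` with `X ^ 12 = W ^ 3 = 1`.
(The pattern is helper17's `Lib/H17/L34M/Stem2.lean` with helper12's two-stage argument of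
`Lib/H12/J3M/Stem.lean`.)
-/

namespace Cfsg.Agent.Lib.H6.U43M

open Subgroup
open Cfsg.Agent.Lib.H17.M22M (pow_card_eq_one exists_lift_pow conj_eq_pow closure_lift_eq_top)

/-- the data on the group `G` -/
structure Base {G : Type*} [Group G] (am bm cm : G) : Prop where
  rel1 : ∀ w ∈ s1L, U33M.wv am bm w = 1
  rel2 : ∀ w ∈ Cert.exactL ++ (Cert.symL ++ Cert.cenL), wv am bm cm w = 1
  gen : closure {am, bm, cm} = ⊤
  card : Nat.card G = 3265920
  a_ne : am ≠ 1
  c_ne : cm ≠ 1

variable {G : Type*} [Group G] {am bm cm : G}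

theorem Base.exact1 (B : Base am bm cm) : ∀ w ∈ U33M.Cert.exactL, U33M.wv am bm w = 1 :=
  fun w hw => B.rel1 w (List.mem_append_left _ hw)

theorem Base.exact2 (B : Base am bm cm) : ∀ w ∈ Cert.exactL, wv am bm cm w = 1 :=
  fun w hw => B.rel2 w (List.mem_append_left _ hw)

theorem Base.finite (B : Base am bm cm) : Finite G :=
  Nat.finite_of_card_ne_zero (by rw [B.card]; norm_num)

theorem Base.c5 (B : Base am bm cm) : cm ^ 5 = 1 := by
  have h := B.exact2 (List.replicate 5 4) (by decide)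
  rwa [wv_replicate] at h

theorem orderOf_eq_of_prime3 {g : G} {p : ℕ} (hp : p.Prime) (h1 : g ^ p = 1) (h2 : g ≠ 1) :
    orderOf g = p := by
  have := orderOf_dvd_of_pow_eq_one h1
  rcases (Nat.dvd_prime hp).1 this with h | h
  · exact absurd (orderOf_eq_one_iff.1 h) h2
  · exact h

theorem inv_eq_pow_four {K : Type*} [Group K] (g : K) (h : g ^ 5 = 1) : g⁻¹ = g ^ 4 := by
  rw [inv_eq_iff_mul_eq_one, ← pow_succ', h]

theorem Base.index_zpowers (B : Base am bm cm) {g : G} {p : ℕ} (hg : orderOf g = p) :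
    (zpowers g).index * p = 3265920 := by
  have := Subgroup.index_mul_card (zpowers g)
  rw [Nat.card_zpowers, hg, B.card] at this
  exact this

/-- the subgroup generated by `am bm` has at least `6048` elements -/
theorem Base.card_U (B : Base am bm cm) : 6048 ≤ Nat.card (closure ({am, bm} : Set G)) :=
  card_closure_ge B.card am bm cm B.rel2 B.gen

/-- the kernel of a finite stem extension has exponent dividing `93312 = 2^7 * 3^6` -/
theorem Base.ker_pow (B : Base am bm cm) {Γ : Type*} [Group Γ] [Finite Γ] (σ : Γ →* G)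
    (hσ : Cfsg.IsStemExtension σ) : ∀ z ∈ σ.ker, z ^ 93312 = 1 := by
  intro z hz
  obtain ⟨e0, -, -, -⟩ := (exact1_iff am bm).1 B.exact1
  have e1 := B.c5
  have h1 : z ^ 3265920 = 1 := by rw [← B.card]; exact pow_card_eq_one σ hσ hz
  set w := z ^ 93312 with hw
  have hwk : w ∈ σ.ker := pow_mem hz _
  have hw35 : w ^ 35 = 1 := by rw [hw, ← pow_mul]; exact h1
  have i5 : (zpowers cm).index = 653184 := by
    have := B.index_zpowers (orderOf_eq_of_prime3 (by norm_num : Nat.Prime 5) e1 B.c_ne)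
    omega
  have i7 : (zpowers am).index = 466560 := by
    have := B.index_zpowers (orderOf_eq_of_prime3 (by norm_num : Nat.Prime 7) e0 B.a_ne)
    omega
  have h5 : w ^ 7 = 1 :=
    Cfsg.Agent.Lib.H28.StemTools.eq_one_of_cyclic σ hσ cm (pow_mem hwk 7) (n := 5)
      (by rw [← pow_mul]; exact hw35) (by rw [i5]; norm_num)
  have h7 : w ^ 5 = 1 :=
    Cfsg.Agent.Lib.H28.StemTools.eq_one_of_cyclic σ hσ am (pow_mem hwk 5) (n := 7)
      (by rw [← pow_mul]; exact hw35) (by rw [i7]; norm_num)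
  have d1 := orderOf_dvd_of_pow_eq_one h5
  have d2 := orderOf_dvd_of_pow_eq_one h7
  have d5 : orderOf w ∣ Nat.gcd 7 5 := Nat.dvd_gcd d1 d2
  have d6 : Nat.gcd 7 5 = 1 := by norm_num
  rw [d6] at d5
  exact orderOf_eq_one_iff.1 (Nat.dvd_one.1 d5)

/-- the kernel of a finite stem extension is generated by two elements `X`, `W` with `X ^ 12 = 1` and
`W ^ 3 = 1` -/
theorem Base.stem (B : Base am bm cm) {Γ : Type*} [Group Γ] [Finite Γ] (σ : Γ →* G)
    (hσ : Cfsg.IsStemExtension σ) :
    ∃ X W : Γ, X ^ 12 = 1 ∧ W ^ 3 = 1 ∧ σ.ker = closure {X, W} ∧ σ.ker ≤ center Γ := by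
  have hN := B.ker_pow σ hσ
  have hfinG := B.finite
  obtain ⟨hs, hc, hd⟩ := hσ
  obtain ⟨e0, e1, e2, e3⟩ := (exact1_iff am bm).1 B.exact1
  have e4 := B.c5
  have e5 := (s2rel1_iff am bm cm).1 (B.exact2 _ (by decide))
  obtain ⟨a, ha, ha7⟩ := exists_lift_pow σ hs hN (by norm_num : Nat.Coprime 7 93312) e0
  obtain ⟨b, hb, hb7⟩ := exists_lift_pow σ hs hN (by norm_num : Nat.Coprime 7 93312) e1
  obtain ⟨c, hc', hc5⟩ := exists_lift_pow σ hs hN (by norm_num : Nat.Coprime 5 93312) e4
  have r2 : U33M.wv a b waL * a * (U33M.wv a b waL)⁻¹ = a ^ 2 :=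
    conj_eq_pow σ hc hN (by norm_num : Nat.Coprime 7 93312) ha7
      (by rw [map_mul, map_mul, map_inv, map_pow, map_wv2, ha, hb]; exact e2)
  have r3 : U33M.wv a b wbL * b * (U33M.wv a b wbL)⁻¹ = b ^ 2 :=
    conj_eq_pow σ hc hN (by norm_num : Nat.Coprime 7 93312) hb7
      (by rw [map_mul, map_mul, map_inv, map_pow, map_wv2, ha, hb]; exact e3)
  have r4 : wv a b c wcL * c * (wv a b c wcL)⁻¹ = c⁻¹ := by
    rw [inv_eq_pow_four c hc5]
    exact conj_eq_pow σ hc hN (by norm_num : Nat.Coprime 5 93312) hc5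
      (by rw [map_mul, map_mul, map_inv, map_pow, map_wv, ha, hb, hc', ← inv_eq_pow_four cm e4]; exact e5)
  -- stage 1
  have hex1 := (exact1_iff a b).2 ⟨ha7, hb7, r2, r3⟩
  obtain ⟨hKfin, hK⟩ := card_closure_le a b σ.ker hc
    (fun x hx hxk => zpowers_inf_ker σ a 7 (by norm_num) ha7 (by rw [ha]; exact B.a_ne) x hx
      (MonoidHom.mem_ker.1 hxk))
    hex1
    (fun w hw => by
      rw [MonoidHom.mem_ker, map_wv2, ha, hb]
      exact B.rel1 w (List.mem_append_right _ hw))
  have hinj := inj_on_closure σ a b hKfin hK (by rw [ha, hb]; exact B.card_U)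
  -- stage 2
  have hex2 : ∀ w ∈ Cert.exactL, wv a b c w = 1 := by
    intro w hw
    have hval : σ (wv a b c w) = 1 := by
      rw [map_wv, ha, hb, hc']
      exact B.exact2 w hw
    rcases exact2_cases w hw with h | rfl | rfl
    · apply hinj _ _ hval
      rw [wv_eq_wv2 a b c w h]
      exact wv2_mem a b w
    · rw [wv_replicate]; exact hc5
    · exact (s2rel1_iff a b c).2 r4
  have hcen : ∀ w ∈ Cert.symL ++ Cert.cenL, wv a b c w ∈ σ.ker ⊓ center Γ := by
    intro w hw
    have : wv a b c w ∈ σ.ker := by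
      rw [MonoidHom.mem_ker, map_wv, ha, hb, hc']
      exact B.rel2 w (List.mem_append_right _ hw)
    exact ⟨this, hc this⟩
  have hgen : closure {a, b, c} = ⊤ :=
    closure_lift_eq_top σ hc hd {a, b, c} (by
      rw [Set.image_insert_eq, Set.image_insert_eq, Set.image_singleton, ha, hb, hc']
      exact B.gen)
  obtain ⟨-, h12, h3, hker, hkc⟩ := core σ hs B.card a b c hKfin hK hinj hex2 hcen hgen
  exact ⟨_, _, h12, h3, hker, hkc⟩

end Cfsg.Agent.Lib.H6.U43M
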