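import Cfsg.Agent.Lib.H6.U43M.Main

set_option autoImplicit false
set_option maxRecDepth 100000

/-!
# Lifts of the `U4(3)` data to stem extensions, and the kernel of the covering homomorphism (helper6)

Complements to `Lib/H6/U43M/Main.lean`, used for the McLaughlin group: the facts about the presented group `P`
(it is finite and the kernel of the covering homomorphism is generated by `X`, `W`), the lifts of the generators to a
finite stem extension satisfy all the relators of `P`, and in any group with three elements satisfying the relators of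
`P` an element of the subgroup they generate that is trivial in `G` lies in `⟨X, W⟩`.
-/

namespace Cfsg.Agent.Lib.H6.U43M

open Subgroup
open Cfsg.Agent.Lib.H17.M22M (pow_card_eq_one exists_lift_pow conj_eq_pow closure_lift_eq_top)

variable {G : Type} [Group G] {am bm cm : G}

/-- the facts about the presented group and the covering homomorphism -/
theorem Base.cover_facts (B : Base am bm cm) :
    Finite P ∧ ((wv pa pb pc xW)⁻¹) ^ 12 = 1 ∧ ((wv pa pb pc yW)⁻¹) ^ 3 = 1 ∧
      B.cover.ker = closure {(wv pa pb pc xW)⁻¹, (wv pa pb pc yW)⁻¹} ∧ B.cover.ker ≤ center P := by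
  have hs := B.cover_surjective
  have hfinG := B.finite
  have hcen : ∀ w ∈ Cert.symL ++ Cert.cenL, wv pa pb pc w ∈ B.cover.ker ⊓ center P := by
    intro w hw
    have h1 : wv pa pb pc w ∈ B.cover.ker := by
      rw [MonoidHom.mem_ker, B.cover_wv]
      exact B.rel2 w (List.mem_append_right _ hw)
    exact ⟨h1, P_central w hw⟩
  obtain ⟨hKfin, hK⟩ := card_closure_le pa pb (⊥ : Subgroup P) bot_le
    (fun x _ hx => Subgroup.mem_bot.1 hx)
    (fun w hw => P_s1 w (List.mem_append_left _ hw))
    (fun w hw => by rw [P_s1 w (List.mem_append_right _ hw)]; exact one_mem _)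
  have hca : B.cover pa = am := homP_pa _ _ _ _ _
  have hcb : B.cover pb = bm := homP_pb _ _ _ _ _
  have hinj := inj_on_closure B.cover pa pb hKfin hK (by rw [hca, hcb]; exact B.card_U)
  have hex2 : ∀ w ∈ Cert.exactL, wv pa pb pc w = 1 :=
    fun w hw => P_exact w (List.mem_append_left _ hw)
  exact core B.cover hs B.card pa pb pc hKfin hK hinj hex2 hcen P_gen

/-- two homomorphisms from `P` that agree on the generators are equal -/
theorem hom_P_ext {K : Type*} [Group K] (f g : P →* K) (ha : f pa = g pa) (hb : f pb = g pb)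
    (hc : f pc = g pc) : f = g := by
  apply PresentedGroup.ext
  intro i
  fin_cases i
  · exact ha
  · exact hb
  · exact hc

section key

variable {E G' : Type*} [Group E] [Group G']

/-- in a group with three elements satisfying the relators of `P`, an element of the subgroup they generate
whose image in `G` is trivial lies in `⟨X, W⟩` -/
theorem Base.mem_of_map_eq_one (B : Base am bm cm) (ι : G →* G') (hι : Function.Injective ι)
    (σ : E →* G') (a b c : E) (ha : σ a = ι am) (hb : σ b = ι bm) (hc : σ c = ι cm)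
    (hex : ∀ w ∈ Cert.exactL ++ s1L, wv a b c w = 1)
    (hcen : ∀ w ∈ Cert.symL ++ Cert.cenL, ∀ i : Fin 3,
      wv a b c w * ![a, b, c] i = ![a, b, c] i * wv a b c w) :
    ((wv a b c xW)⁻¹) ^ 12 = 1 ∧ ((wv a b c yW)⁻¹) ^ 3 = 1 ∧
    ∀ x ∈ closure ({a, b, c} : Set E), σ x = 1 →
      x ∈ closure ({(wv a b c xW)⁻¹, (wv a b c yW)⁻¹} : Set E) := by
  obtain ⟨-, h12, h3, hker, -⟩ := B.cover_facts
  set ψ : P →* E := homP a b c hex hcen with hψ
  have hX : ψ (wv pa pb pc xW)⁻¹ = (wv a b c xW)⁻¹ := by rw [map_inv, homP_wv]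
  have hW : ψ (wv pa pb pc yW)⁻¹ = (wv a b c yW)⁻¹ := by rw [map_inv, homP_wv]
  refine ⟨by rw [← hX, ← map_pow, h12, map_one], by rw [← hW, ← map_pow, h3, map_one], ?_⟩
  have hcomp : σ.comp ψ = ι.comp B.cover := by
    apply hom_P_ext
    · rw [MonoidHom.comp_apply, MonoidHom.comp_apply, homP_pa, ha]
      congr 1
      exact (homP_pa _ _ _ _ _).symm
    · rw [MonoidHom.comp_apply, MonoidHom.comp_apply, homP_pb, hb]
      congr 1
      exact (homP_pb _ _ _ _ _).symm
    · rw [MonoidHom.comp_apply, MonoidHom.comp_apply, homP_pc, hc]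
      congr 1
      exact (homP_pc _ _ _ _ _).symm
  have hrange : closure ({a, b, c} : Set E) = ψ.range := by
    rw [MonoidHom.range_eq_map, ← P_gen, MonoidHom.map_closure, Set.image_insert_eq,
      Set.image_insert_eq, Set.image_singleton, homP_pa, homP_pb, homP_pc]
  intro x hx hx1
  rw [hrange] at hx
  obtain ⟨y, rfl⟩ := hx
  have h1 : ι (B.cover y) = 1 := by
    have := congrArg (fun f : P →* G' => f y) hcomp
    simp only [MonoidHom.comp_apply] at this
    rw [← this]
    exact hx1
  have h2 : B.cover y = 1 := hι (by rw [h1, map_one])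
  have h3' : y ∈ closure ({(wv pa pb pc xW)⁻¹, (wv pa pb pc yW)⁻¹} : Set P) := by
    rw [← hker]
    exact MonoidHom.mem_ker.2 h2
  have h4 : ψ y ∈ (closure ({(wv pa pb pc xW)⁻¹, (wv pa pb pc yW)⁻¹} : Set P)).map ψ :=
    mem_map_of_mem _ h3'
  rw [MonoidHom.map_closure, Set.image_insert_eq, Set.image_singleton, hX, hW] at h4
  exact h4

end key

/-- the lifts of the generators to a finite stem extension satisfy all the relators of `P` -/
theorem Base.stem_lifts (B : Base am bm cm) {Γ : Type*} [Group Γ] [Finite Γ] (σ : Γ →* G)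
    (hσ : Cfsg.IsStemExtension σ) :
    ∃ a b c : Γ, σ a = am ∧ σ b = bm ∧ σ c = cm ∧ (∀ w ∈ Cert.exactL ++ s1L, wv a b c w = 1) ∧
      closure {a, b, c} = ⊤ := by
  have hN := B.ker_pow σ hσ
  have hfinG := B.finite
  obtain ⟨hs, hc, hd⟩ := hσ
  obtain ⟨e0, e1, e2, e3⟩ := (exact1_iff am bm).1 B.exact1
  have e4 := B.c5
  have e5 := (s2rel1_iff am bm cm).1 (B.exact2 _ (by decide))
  obtain ⟨a, ha, ha7⟩ := exists_lift_pow σ hs hN (by norm_num : Nat.Coprime 7 93312) e0
  obtain ⟨b, hb, hb7⟩ := exists_lift_pow σ hs hN (by norm_num : Nat.Coprime 7 93312) e1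
  obtain ⟨c, hc', hc5⟩ := exists_lift_pow σ hs hN (by norm_num : Nat.Coprime 5 93312) e4
  have r2 : U33M.wv a b waL * a * (U33M.wv a b waL)⁻¹ = a ^ 2 :=
    conj_eq_pow σ hc hN (by norm_num : Nat.Coprime 7 93312) ha7
      (by rw [map_mul, map_mul, map_inv, map_pow, map_wv2, ha, hb]; exact e2)
  have r3 : U33M.wv a b wbL * b * (U33M.wv a b wbL)⁻¹ = b ^ 2 :=
    conj_eq_pow σ hc hN (by norm_num : Nat.Coprime 7 93312) hb7
      (by rw [map_mul, map_mul, map_inv, map_pow, map_wv2, ha, hb]; exact e3)
  have r4 : wv a b c wcL * c * (wv a b c wcL)⁻¹ = c⁻¹ := by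
    rw [inv_eq_pow_four c hc5]
    exact conj_eq_pow σ hc hN (by norm_num : Nat.Coprime 5 93312) hc5
      (by rw [map_mul, map_mul, map_inv, map_pow, map_wv, ha, hb, hc', ← inv_eq_pow_four cm e4]; exact e5)
  have hex1 := (exact1_iff a b).2 ⟨ha7, hb7, r2, r3⟩
  obtain ⟨hKfin, hK⟩ := card_closure_le a b σ.ker hc
    (fun x hx hxk => zpowers_inf_ker σ a 7 (by norm_num) ha7 (by rw [ha]; exact B.a_ne) x hx
      (MonoidHom.mem_ker.1 hxk))
    hex1
    (fun w hw => by
      rw [MonoidHom.mem_ker, map_wv2, ha, hb]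
      exact B.rel1 w (List.mem_append_right _ hw))
  have hinj := inj_on_closure σ a b hKfin hK (by rw [ha, hb]; exact B.card_U)
  have hex2 : ∀ w ∈ Cert.exactL, wv a b c w = 1 := by
    intro w hw
    have hval : σ (wv a b c w) = 1 := by
      rw [map_wv, ha, hb, hc']
      exact B.exact2 w hw
    rcases exact2_cases w hw with h | rfl | rfl
    · apply hinj _ _ hval
      rw [wv_eq_wv2 a b c w h]
      exact wv2_mem a b w
    · rw [wv_replicate]; exact hc5
    · exact (s2rel1_iff a b c).2 r4
  have hgen : closure {a, b, c} = ⊤ :=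
    closure_lift_eq_top σ hc hd {a, b, c} (by
      rw [Set.image_insert_eq, Set.image_insert_eq, Set.image_singleton, ha, hb, hc']
      exact B.gen)
  refine ⟨a, b, c, ha, hb, hc', ?_, hgen⟩
  intro w hw
  rcases List.mem_append.1 hw with h | h
  · exact hex2 w h
  · have hlt := s1L_lt w h
    rw [wv_eq_wv2 a b c w hlt]
    apply hinj _ (wv2_mem a b w)
    rw [map_wv2, ha, hb]
    exact B.rel1 w h

end Cfsg.Agent.Lib.H6.U43M
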