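import Cfsg.Agent.Lib.H6.U43M.Pres
import Cfsg.Agent.Lib.H6.U43M.Model1.Summary
import Cfsg.Agent.Lib.H6.U43M.Model2.Summary

set_option autoImplicit false

/-!
# Two monomial models of the presented group `P` (helper6)

The generators act on `Fin 540 × ZMod 12` in two ways; the exact relators act trivially, the central
relators act as shifts.  In the first model `X` acts as the shift by `1` and `W` trivially; in the second
model `X` acts trivially and `W` as the shift by `4`.  (Adapted from helper17's `Lib/H17/L34M/ModelHom2.lean`.)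
-/

namespace Cfsg.Agent.Lib.H6.U43M

open Cfsg.Agent.Lib.H17.MonoModel

theorem letters_lt6 : ∀ w ∈ Cert.exactL ++ Cert.symL ++ Cert.cenL, ∀ x ∈ w, x < 6 := by
  decide

section generic

variable {tabs : ℕ → ℕ} (hr : Range tabs 540) (hp : PairsOK tabs 540)

/-- the model permutations -/
noncomputable def sgG (x : ℕ) : Equiv.Perm (Fin 540 × ZMod 12) := σM hr hp x

theorem gl_sg (x : ℕ) (hx : x < 6) :
    gl (sgG hr hp 0)⁻¹ (sgG hr hp 2)⁻¹ (sgG hr hp 4)⁻¹ x = (sgG hr hp x)⁻¹ := by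
  have h0 : sgG hr hp 1 = (sgG hr hp 0)⁻¹ := σM_inv hr hp 0 (by norm_num)
  have h2 : sgG hr hp 3 = (sgG hr hp 2)⁻¹ := σM_inv hr hp 2 (by norm_num)
  have h4 : sgG hr hp 5 = (sgG hr hp 4)⁻¹ := σM_inv hr hp 4 (by norm_num)
  interval_cases x
  · rfl
  · change (sgG hr hp 0)⁻¹⁻¹ = (sgG hr hp 1)⁻¹
    rw [h0]
  · rfl
  · change (sgG hr hp 2)⁻¹⁻¹ = (sgG hr hp 3)⁻¹
    rw [h2]
  · rfl
  · change (sgG hr hp 4)⁻¹⁻¹ = (sgG hr hp 5)⁻¹
    rw [h4]

theorem wv_sg (w : List ℕ) (hw : ∀ x ∈ w, x < 6) (e : ℕ)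
    (h : checkWordM (w.map tabs) e 540 = true) :
    wv (sgG hr hp 0)⁻¹ (sgG hr hp 2)⁻¹ (sgG hr hp 4)⁻¹ w = (shiftP 540 (e : ZMod 12))⁻¹ := by
  rw [← word_perm_eq hr hp w hw e h]
  unfold wv
  congr 1
  apply List.map_congr_left
  intro x hx
  exact gl_sg hr hp x (hw x hx)

variable (hex : ∀ w ∈ Cert.exactL, checkWordM (w.map tabs) 0 540 = true)
  (hex1 : ∀ w ∈ s1L, checkWordM (w.map tabs) 0 540 = true)
  (hcen : ∀ w ∈ Cert.symL ++ Cert.cenL, ∃ e, checkWordM (w.map tabs) e 540 = true)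

include hex hex1 in
theorem sg_exact : ∀ w ∈ Cert.exactL ++ s1L,
    wv (sgG hr hp 0)⁻¹ (sgG hr hp 2)⁻¹ (sgG hr hp 4)⁻¹ w = 1 := by
  intro w hw
  rcases List.mem_append.1 hw with h | h
  · rw [wv_sg hr hp w (letters_lt6 w (by simp [h])) 0 (hex w h)]
    simp [shiftP_zero]
  · rw [wv_sg hr hp w (fun x hx => lt_trans (s1L_lt w h x hx) (by norm_num)) 0 (hex1 w h)]
    simp [shiftP_zero]

include hcen in
theorem sg_central : ∀ w ∈ Cert.symL ++ Cert.cenL, ∀ i : Fin 3,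
    wv (sgG hr hp 0)⁻¹ (sgG hr hp 2)⁻¹ (sgG hr hp 4)⁻¹ w *
        ![(sgG hr hp 0)⁻¹, (sgG hr hp 2)⁻¹, (sgG hr hp 4)⁻¹] i =
      ![(sgG hr hp 0)⁻¹, (sgG hr hp 2)⁻¹, (sgG hr hp 4)⁻¹] i *
        wv (sgG hr hp 0)⁻¹ (sgG hr hp 2)⁻¹ (sgG hr hp 4)⁻¹ w := by
  intro w hw i
  obtain ⟨e, he⟩ := hcen w hw
  have hlt : ∀ x ∈ w, x < 6 := letters_lt6 w (by
    rw [List.append_assoc]; exact List.mem_append_right _ hw)
  rw [wv_sg hr hp w hlt e he]
  have key : ∀ x, x < 6 → (shiftP 540 (e : ZMod 12))⁻¹ * (sgG hr hp x)⁻¹ =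
      (sgG hr hp x)⁻¹ * (shiftP 540 (e : ZMod 12))⁻¹ := by
    intro x hx
    have := shiftP_comm hr hp x hx (e : ZMod 12)
    exact (this.inv_inv).eq
  fin_cases i
  · exact key 0 (by norm_num)
  · exact key 2 (by norm_num)
  · exact key 4 (by norm_num)

/-- the model homomorphism -/
noncomputable def modelHomG : P →* Equiv.Perm (Fin 540 × ZMod 12) :=
  homP (sgG hr hp 0)⁻¹ (sgG hr hp 2)⁻¹ (sgG hr hp 4)⁻¹ (sg_exact hr hp hex hex1)
    (sg_central hr hp hcen)

theorem modelHomG_word (w : List ℕ) (hw : ∀ x ∈ w, x < 6) (e : ℕ)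
    (h : checkWordM (w.map tabs) e 540 = true) :
    modelHomG hr hp hex hex1 hcen (wv pa pb pc w)⁻¹ = shiftP 540 (e : ZMod 12) := by
  unfold modelHomG
  rw [map_inv, homP_wv, wv_sg hr hp w hw e h, inv_inv]

end generic

/-- the first model -/
noncomputable def model1 : P →* Equiv.Perm (Fin 540 × ZMod 12) :=
  modelHomG Model1.range_ok Model1.pairs_ok Model1.exact_chk Model1.extra_chk Model1.central_chk

/-- the second model -/
noncomputable def model2 : P →* Equiv.Perm (Fin 540 × ZMod 12) :=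
  modelHomG Model2.range_ok Model2.pairs_ok Model2.exact_chk Model2.extra_chk Model2.central_chk

theorem model1_X : model1 (wv pa pb pc xW)⁻¹ = shiftP 540 ((1 : ℕ) : ZMod 12) :=
  modelHomG_word _ _ _ _ _ xW (by decide) 1 Model1.symX_chk

theorem model1_W : model1 (wv pa pb pc yW)⁻¹ = shiftP 540 ((0 : ℕ) : ZMod 12) :=
  modelHomG_word _ _ _ _ _ yW (by decide) 0 Model1.symY_chk

theorem model2_X : model2 (wv pa pb pc xW)⁻¹ = shiftP 540 ((0 : ℕ) : ZMod 12) :=
  modelHomG_word _ _ _ _ _ xW (by decide) 0 Model2.symX_chk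

theorem model2_W : model2 (wv pa pb pc yW)⁻¹ = shiftP 540 ((4 : ℕ) : ZMod 12) :=
  modelHomG_word _ _ _ _ _ yW (by decide) 4 Model2.symY_chk

theorem shiftP_mul (e e' : ZMod 12) : shiftP 540 e * shiftP 540 e' = shiftP 540 (e + e') := by
  apply Equiv.ext
  intro q
  apply Prod.ext
  · rfl
  · change q.2 + e' + e = q.2 + (e + e')
    ring

theorem shiftP_eq_one {e : ZMod 12} (h : shiftP 540 e = 1) : e = 0 := by
  have := congrArg (fun f : Equiv.Perm (Fin 540 × ZMod 12) => (f (⟨0, by norm_num⟩, 0)).2) h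
  simp only [shiftP_apply, Equiv.Perm.coe_one, id_eq] at this
  change (0 : ZMod 12) + e = 0 at this
  rwa [zero_add] at this

/-- the two models separate the elements `X ^ i * W ^ k` -/
theorem models_sep (i k : ℕ) (h : ((wv pa pb pc xW)⁻¹ : P) ^ i * ((wv pa pb pc yW)⁻¹) ^ k = 1) :
    ((i : ZMod 12) = 0) ∧ (4 * (k : ZMod 12) = 0) := by
  constructor
  · have h1 := congrArg model1 h
    rw [map_mul, map_pow, map_pow, model1_X, model1_W, shiftP_pow, shiftP_pow, shiftP_mul, map_one] at h1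
    have := shiftP_eq_one h1
    push_cast at this
    linear_combination this
  · have h2 := congrArg model2 h
    rw [map_mul, map_pow, map_pow, model2_X, model2_W, shiftP_pow, shiftP_pow, shiftP_mul, map_one] at h2
    have := shiftP_eq_one h2
    push_cast at this
    linear_combination this

end Cfsg.Agent.Lib.H6.U43M
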