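import Cfsg.Agent.Lib.H6.U43M.Stem
import Cfsg.Agent.Lib.H6.U43M.ModelHom

set_option autoImplicit false

/-!
# The Schur multiplier of a group with the `U4(3)` data is `4 × 3 × 3` (helper6)

(The pattern is helper17's `Lib/H17/L34M/Main2.lean`; the homomorphism lemma is adapted from helper8's
`Lib/H8/L34Pieces.lean`.)
-/

namespace Cfsg.Agent.Lib.H6.U43M

open Subgroup

/-- the multiplier -/
abbrev T433 : Type := Multiplicative (ZMod 4 × ZMod 3 × ZMod 3)

section hom

/-- three commuting elements of orders dividing `4, 3, 3` give a homomorphism from `4 × 3 × 3` onto the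
subgroup they generate -/
theorem exists_hom_433 {K : Type*} [Group K] (z0 z1 z2 : K) (h0 : z0 ^ 4 = 1) (h1 : z1 ^ 3 = 1)
    (h2 : z2 ^ 3 = 1) (c01 : Commute z0 z1) (c02 : Commute z0 z2) (c12 : Commute z1 z2) :
    ∃ f : T433 →* K,
      (∀ t, f t = z0 ^ (Multiplicative.toAdd t).1.val * z1 ^ (Multiplicative.toAdd t).2.1.val *
        z2 ^ (Multiplicative.toAdd t).2.2.val) ∧
      f.range = Subgroup.closure {z0, z1, z2} := by
  have hmul : ∀ s t : T433,
      z0 ^ (Multiplicative.toAdd (s * t)).1.val * z1 ^ (Multiplicative.toAdd (s * t)).2.1.val *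
        z2 ^ (Multiplicative.toAdd (s * t)).2.2.val =
      (z0 ^ (Multiplicative.toAdd s).1.val * z1 ^ (Multiplicative.toAdd s).2.1.val *
        z2 ^ (Multiplicative.toAdd s).2.2.val) *
      (z0 ^ (Multiplicative.toAdd t).1.val * z1 ^ (Multiplicative.toAdd t).2.1.val *
        z2 ^ (Multiplicative.toAdd t).2.2.val) := by
    intro s t
    rw [toAdd_mul]
    simp only [Prod.fst_add, Prod.snd_add, ZMod.val_add]
    rw [← pow_eq_pow_mod _ h0, ← pow_eq_pow_mod _ h1, ← pow_eq_pow_mod _ h2, pow_add, pow_add,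
      pow_add]
    set a := (Multiplicative.toAdd s).1.val
    set a' := (Multiplicative.toAdd t).1.val
    set b := (Multiplicative.toAdd s).2.1.val
    set b' := (Multiplicative.toAdd t).2.1.val
    set c := (Multiplicative.toAdd s).2.2.val
    set c' := (Multiplicative.toAdd t).2.2.val
    have e1 : Commute (z0 ^ a') (z1 ^ b) := (c01.pow_pow a' b)
    have e2 : Commute (z0 ^ a') (z2 ^ c) := (c02.pow_pow a' c)
    have e3 : Commute (z1 ^ b') (z2 ^ c) := (c12.pow_pow b' c)
    calc z0 ^ a * z0 ^ a' * (z1 ^ b * z1 ^ b') * (z2 ^ c * z2 ^ c')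
        = z0 ^ a * (z0 ^ a' * z1 ^ b) * z1 ^ b' * (z2 ^ c * z2 ^ c') := by simp only [mul_assoc]
      _ = z0 ^ a * (z1 ^ b * z0 ^ a') * z1 ^ b' * (z2 ^ c * z2 ^ c') := by rw [e1.eq]
      _ = z0 ^ a * z1 ^ b * z0 ^ a' * (z1 ^ b' * z2 ^ c) * z2 ^ c' := by simp only [mul_assoc]
      _ = z0 ^ a * z1 ^ b * z0 ^ a' * (z2 ^ c * z1 ^ b') * z2 ^ c' := by rw [e3.eq]
      _ = z0 ^ a * z1 ^ b * (z0 ^ a' * z2 ^ c) * z1 ^ b' * z2 ^ c' := by simp only [mul_assoc]
      _ = z0 ^ a * z1 ^ b * (z2 ^ c * z0 ^ a') * z1 ^ b' * z2 ^ c' := by rw [e2.eq]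
      _ = z0 ^ a * z1 ^ b * z2 ^ c * (z0 ^ a' * z1 ^ b' * z2 ^ c') := by simp only [mul_assoc]
  let f : T433 →* K :=
    MonoidHom.mk' (fun t => z0 ^ (Multiplicative.toAdd t).1.val *
      z1 ^ (Multiplicative.toAdd t).2.1.val * z2 ^ (Multiplicative.toAdd t).2.2.val) hmul
  have hf : ∀ t, f t = z0 ^ (Multiplicative.toAdd t).1.val * z1 ^ (Multiplicative.toAdd t).2.1.val *
        z2 ^ (Multiplicative.toAdd t).2.2.val := fun t => rfl
  refine ⟨f, hf, ?_⟩
  apply le_antisymm
  · rintro _ ⟨t, rfl⟩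
    rw [hf]
    have m0 : z0 ∈ Subgroup.closure ({z0, z1, z2} : Set K) := Subgroup.subset_closure (by simp)
    have m1 : z1 ∈ Subgroup.closure ({z0, z1, z2} : Set K) := Subgroup.subset_closure (by simp)
    have m2 : z2 ∈ Subgroup.closure ({z0, z1, z2} : Set K) := Subgroup.subset_closure (by simp)
    exact Subgroup.mul_mem _ (Subgroup.mul_mem _ (Subgroup.pow_mem _ m0 _) (Subgroup.pow_mem _ m1 _))
      (Subgroup.pow_mem _ m2 _)
  · have v13 : (1 : ZMod 3).val = 1 := rfl
    have v14 : (1 : ZMod 4).val = 1 := rfl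
    have v03 : (0 : ZMod 3).val = 0 := rfl
    have v04 : (0 : ZMod 4).val = 0 := rfl
    rw [Subgroup.closure_le]
    intro x hx
    simp only [Set.mem_insert_iff, Set.mem_singleton_iff] at hx
    rcases hx with rfl | rfl | rfl
    · refine ⟨Multiplicative.ofAdd ((1 : ZMod 4), (0 : ZMod 3), (0 : ZMod 3)), ?_⟩
      rw [hf]
      simp [v14, v03]
    · refine ⟨Multiplicative.ofAdd ((0 : ZMod 4), (1 : ZMod 3), (0 : ZMod 3)), ?_⟩
      rw [hf]
      simp [v13, v03, v04]
    · refine ⟨Multiplicative.ofAdd ((0 : ZMod 4), (0 : ZMod 3), (1 : ZMod 3)), ?_⟩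
      rw [hf]
      simp [v13, v03, v04]

variable {E : Type*} [Group E] (X W : E)

theorem closure_433 (hX : X ^ 12 = 1) :
    closure {X ^ 3, X ^ 4, W} = closure {X, W} := by
  apply le_antisymm
  · rw [closure_le]
    have hx : X ∈ closure {X, W} := subset_closure (by simp)
    have hw : W ∈ closure {X, W} := subset_closure (by simp)
    intro g hg
    simp only [Set.mem_insert_iff, Set.mem_singleton_iff] at hg
    rcases hg with rfl | rfl | rfl
    · exact pow_mem hx 3
    · exact pow_mem hx 4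
    · exact hw
  · rw [closure_le]
    have h3 : X ^ 3 ∈ closure {X ^ 3, X ^ 4, W} := subset_closure (by simp)
    have h4 : X ^ 4 ∈ closure {X ^ 3, X ^ 4, W} := subset_closure (by simp)
    have hw : W ∈ closure {X ^ 3, X ^ 4, W} := subset_closure (by simp)
    have hx : X ∈ closure {X ^ 3, X ^ 4, W} := by
      have e : (X ^ 3) ^ 3 * X ^ 4 = X := by
        rw [← pow_mul, ← pow_add, show 3 * 3 + 4 = 12 + 1 from rfl, pow_add, hX, one_mul, pow_one]
      have h := mul_mem (pow_mem h3 3) h4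
      rw [e] at h
      exact h
    intro g hg
    simp only [Set.mem_insert_iff, Set.mem_singleton_iff] at hg
    rcases hg with rfl | rfl
    · exact hx
    · exact hw

/-- the homomorphism from `4 × 3 × 3` onto a subgroup generated by commuting elements `X`, `W` with
`X ^ 12 = W ^ 3 = 1` -/
theorem exists_hom_T433 (hc : Commute X W) (hX : X ^ 12 = 1) (hW : W ^ 3 = 1)
    (K : Subgroup E) (hK : K = closure {X, W}) :
    ∃ f : T433 →* ↥K, Function.Surjective f ∧
      ∀ t, ((f t : ↥K) : E) = X ^ (3 * (Multiplicative.toAdd t).1.val +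
        4 * (Multiplicative.toAdd t).2.1.val) * W ^ (Multiplicative.toAdd t).2.2.val := by
  have h0 : (X ^ 3) ^ 4 = 1 := by rw [← pow_mul]; exact hX
  have h1 : (X ^ 4) ^ 3 = 1 := by rw [← pow_mul]; exact hX
  have c01 : Commute (X ^ 3) (X ^ 4) := (Commute.refl X).pow_pow 3 4
  have c02 : Commute (X ^ 3) W := hc.pow_left 3
  have c12 : Commute (X ^ 4) W := hc.pow_left 4
  obtain ⟨f, hf, hrange⟩ := exists_hom_433 (X ^ 3) (X ^ 4) W h0 h1 hW c01 c02 c12
  rw [closure_433 X W hX, ← hK] at hrange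
  have hmem : ∀ t, f t ∈ K := fun t => by rw [← hrange]; exact ⟨t, rfl⟩
  refine ⟨f.codRestrict K hmem, ?_, ?_⟩
  · rintro ⟨y, hy⟩
    rw [← hrange] at hy
    obtain ⟨t, rfl⟩ := hy
    exact ⟨t, rfl⟩
  · intro t
    change f t = _
    rw [hf t, ← pow_mul, ← pow_mul, ← pow_add]

end hom

theorem card_T433 : Nat.card T433 = 36 := by
  rw [Nat.card_eq_fintype_card, Fintype.card_multiplicative, Fintype.card_prod, Fintype.card_prod,
    ZMod.card, ZMod.card]

theorem sep_T433 : ∀ t : ZMod 4 × ZMod 3 × ZMod 3,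
    ((((3 * t.1.val + 4 * t.2.1.val : ℕ) : ZMod 12) = 0) ∧
      4 * ((t.2.2.val : ℕ) : ZMod 12) = 0) → t = 0 := by
  decide

variable {G : Type} [Group G] {am bm cm : G}

theorem Base.exactP (B : Base am bm cm) : ∀ w ∈ Cert.exactL ++ s1L, wv am bm cm w = 1 := by
  intro w hw
  rcases List.mem_append.1 hw with h | h
  · exact B.exact2 w h
  · rw [wv_eq_wv2 am bm cm w (s1L_lt w h)]
    exact B.rel1 w h

/-- the covering homomorphism -/
noncomputable def Base.cover (B : Base am bm cm) : P →* G :=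
  homP am bm cm B.exactP (fun w hw i => by
    rw [B.rel2 w (List.mem_append_right _ hw), one_mul, mul_one])

theorem Base.cover_wv (B : Base am bm cm) (w : List ℕ) : B.cover (wv pa pb pc w) = wv am bm cm w :=
  homP_wv _ _ _ _ _ w

theorem Base.cover_surjective (B : Base am bm cm) : Function.Surjective B.cover := by
  rw [← MonoidHom.range_eq_top, eq_top_iff, ← B.gen, closure_le]
  intro g hg
  simp only [Set.mem_insert_iff, Set.mem_singleton_iff] at hg
  rcases hg with rfl | rfl | rfl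
  · exact ⟨pa, homP_pa _ _ _ _ _⟩
  · exact ⟨pb, homP_pb _ _ _ _ _⟩
  · exact ⟨pc, homP_pc _ _ _ _ _⟩

theorem P_s1 : ∀ w ∈ s1L, U33M.wv pa pb w = 1 := by
  intro w hw
  rw [← wv_eq_wv2 pa pb pc w (s1L_lt w hw)]
  exact P_exact w (List.mem_append_right _ hw)

theorem Base.main (B : Base am bm cm) : Cfsg.HasSchurMultiplier G T433 := by
  constructor
  · -- existence: the presented group
    have hs := B.cover_surjective
    have hfinG := B.finite
    have hcen : ∀ w ∈ Cert.symL ++ Cert.cenL, wv pa pb pc w ∈ B.cover.ker ⊓ center P := by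
      intro w hw
      have h1 : wv pa pb pc w ∈ B.cover.ker := by
        rw [MonoidHom.mem_ker, B.cover_wv]
        exact B.rel2 w (List.mem_append_right _ hw)
      exact ⟨h1, P_central w hw⟩
    obtain ⟨hKfin, hK⟩ := card_closure_le pa pb (⊥ : Subgroup P) bot_le
      (fun x _ hx => Subgroup.mem_bot.1 hx)
      (fun w hw => P_s1 w (List.mem_append_left _ hw))
      (fun w hw => by rw [P_s1 w (List.mem_append_right _ hw)]; exact one_mem _)
    have hca : B.cover pa = am := homP_pa _ _ _ _ _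
    have hcb : B.cover pb = bm := homP_pb _ _ _ _ _
    have hinj := inj_on_closure B.cover pa pb hKfin hK (by rw [hca, hcb]; exact B.card_U)
    have hex2 : ∀ w ∈ Cert.exactL, wv pa pb pc w = 1 :=
      fun w hw => P_exact w (List.mem_append_left _ hw)
    obtain ⟨hfin, h12, h3, hker, hkc⟩ := core B.cover hs B.card pa pb pc hKfin hK hinj hex2 hcen P_gen
    have hperf : commutator P = ⊤ := by
      obtain ⟨h1, h2, h3'⟩ := mem_commutator_of_exact pa pb pc
        (fun w hw => P_s1 w (List.mem_append_left _ hw)) hex2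
      rw [eq_top_iff, ← P_gen, closure_le]
      intro g hg
      simp only [Set.mem_insert_iff, Set.mem_singleton_iff] at hg
      rcases hg with rfl | rfl | rfl
      · exact h1
      · exact h2
      · exact h3'
    refine ⟨P, inferInstance, hfin, B.cover, ⟨hs, hkc, by rw [hperf]; exact le_top⟩, ?_⟩
    have hXc : (wv pa pb pc xW)⁻¹ ∈ center P := inv_mem (P_central xW (by decide))
    have hcomm : Commute ((wv pa pb pc xW)⁻¹ : P) (wv pa pb pc yW)⁻¹ :=
      ((mem_center_iff.1 hXc) _).symm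
    obtain ⟨f, hf, hform⟩ := exists_hom_T433 _ _ hcomm h12 h3 B.cover.ker hker
    have hinjf : Function.Injective f := by
      rw [injective_iff_map_eq_one]
      intro t ht
      have h1 : ((f t : ↥B.cover.ker) : P) = 1 := by rw [ht]; rfl
      rw [hform t] at h1
      have hsep := models_sep _ _ h1
      exact sep_T433 (Multiplicative.toAdd t) hsep
    exact ⟨(MulEquiv.ofBijective f ⟨hinjf, hf⟩).symm⟩
  · -- universality
    intro Γ _ _ σ hσ
    obtain ⟨X, W, h12, h3, hker, hkc⟩ := B.stem σ hσ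
    have hXk : X ∈ σ.ker := by rw [hker]; exact subset_closure (by simp)
    have hcomm : Commute X W := ((mem_center_iff.1 (hkc hXk)) W).symm
    obtain ⟨f, hf, -⟩ := exists_hom_T433 X W hcomm h12 h3 σ.ker hker
    exact ⟨f, hf⟩

end Cfsg.Agent.Lib.H6.U43M
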